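import Groth.Agent.Lib.PCoh.Infinite

/-!
Resolutions by objects of a subcategory, from finite generation of the cohomology of the cones.
-/

set_option autoImplicit false

universe w v u

open CategoryTheory CategoryTheory.Limits

namespace Groth.Agent.PCoh

open CochainComplex HomologicalComplex

variable {C : Type u} [Category.{v} C] [Abelian C] {P : ObjectProperty C} [P.IsClosedUnderIsomorphisms]
  [P.ContainsZero] (hsum : ∀ X Y : C, P X → P Y → P (X ⨯ Y)) (hql : _root_.PCoh.IsQuasiLiftable P)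

include hsum hql

theorem exists_strictAll_quasiIso_of_cone {G : CochainComplex C ℤ} (m : ℤ) (hm : ∀ i, m ≤ i → G.ExactAt i)
    (H : ∀ (k : ℤ) (E : CochainComplex C ℤ) (w : E ⟶ G), Bdd P E (k + 1) m → NIso w (k + 1) →
      _root_.PCoh.IsOfFiniteType P ((mappingCone w).homology k)) :
    ∃ (E : CochainComplex C ℤ) (u : E ⟶ G), (∀ i, P (E.X i)) ∧ (∀ i, m ≤ i → IsZero (E.X i)) ∧
      QuasiIso u := by
  let Stage (j : ℕ) := { p : Σ E : CochainComplex C ℤ, E ⟶ G //
    Bdd P p.1 (m - j) m ∧ NIso p.2 (m - j) }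
  have h₀ : Nonempty (Stage 0) := by
    obtain ⟨E, w, hE, hw⟩ := exists_bdd_nIso hsum hql G m hm m le_rfl
      fun k hk hk' => absurd hk (by omega)
    exact ⟨⟨⟨E, w⟩, by simpa using hE, by simpa using hw⟩⟩
  have hs : ∀ (j : ℕ) (s : Stage j), ∃ (s' : Stage (j + 1)) (v : s.1.1 ⟶ s'.1.1),
      v ≫ s'.1.2 = s.1.2 ∧ ∀ i, i ≠ m - (j + 1 : ℕ) → IsIso (v.f i) := by
    rintro j ⟨⟨E, w⟩, hE, hw⟩
    have hw' : NIso w (m - (j + 1 : ℕ) + 1) := hw.mono (by simp only [Nat.cast_add, Nat.cast_one]; omega)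
    obtain ⟨X, E', v, u', fac, -, hiso, hX, -, ⟨e⟩, hu'⟩ := exists_modification hql w (m - (j + 1 : ℕ)) hw'
      (H _ E w ⟨hE.1, fun i hi => hE.2 i (by omega)⟩ hw')
    refine ⟨⟨⟨E', u'⟩, ⟨fun i => ?_, fun i hi => ?_⟩, hu'⟩, v, fac, hiso⟩
    · by_cases h : i = m - (j + 1 : ℕ)
      · subst h
        exact P.prop_of_iso e.symm (prop_biprod hsum (hE.1 _) hX)
      · have := hiso i h
        exact P.prop_of_iso (asIso (v.f i)) (hE.1 i)
    · have := hiso i (by omega)
      exact (hE.2 i (by omega)).of_iso (asIso (v.f i)).symm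
  choose next v fac hiso using hs
  let s : ∀ j, Stage j := fun j => Nat.rec h₀.some (fun j t => next j t) j
  obtain ⟨L, ι, u, hι, hIso⟩ := exists_seq_colimit (X := fun j => (s j).1.1) (fun j => v j (s j)) m
    (fun j i hi => hiso j (s j) i hi) (fun j => (s j).1.2) (fun j => fac j (s j))
  refine ⟨L, u, fun i => ?_, fun i hi => ?_, quasiIso_of_forall_nIso fun k i _ => ?_⟩
  · have := hIso (m - i).toNat i (by omega)
    exact P.prop_of_iso (asIso ((ι (m - i).toNat).f i)) ((s _).2.1.1 i)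
  · have := hIso 0 i (by omega)
    exact ((s 0).2.1.2 i (Or.inr hi)).of_iso (asIso ((ι 0).f i)).symm
  · refine exactAt_mappingCone_of_isIso (ι (m - i).toNat) u i (fun l hl => hIso _ l (by omega)) ?_
    rw [hι]
    exact (s _).2.2 i (by omega)

end Groth.Agent.PCoh
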