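import Groth.Agent.Lib.AmpleRes8.Engine
import Groth.Agent.Lib.TensorMod.InvCrit
import Groth.Agent.Lib.DGen9.ResCluster
import Groth.Agent.Lib.DGen9.Approx
import Groth.Agent.Lib.RelPCS8.PerfAmp
import Groth.Agent.Lib.Exact8.AmpleFam

/-!
Global resolutions of pseudo-coherent objects by negative powers of an ample family.
-/

set_option autoImplicit false
set_option linter.unusedSectionVars false
set_option linter.style.haveILetI false
set_option backward.isDefEq.respectTransparency false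
set_option backward.isDefEq.respectTransparency.types false
set_option maxHeartbeats 800000

universe v u

open CategoryTheory CategoryTheory.Limits AlgebraicGeometry Pretriangulated

attribute [local instance] HasDerivedCategory.standard

namespace Groth.Agent.AmpleRes8

open DGen9

variable {X : Scheme.{u}} {ι : Type u} (L : ι → X.Modules)

theorem isFinLocFree_of_inAddL (hinv : ∀ i, PicF.IsInvertible (L i)) {M : X.Modules} (h : KSix.InAddL L M) :
    FlatMod.IsFinLocFree M := by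
  obtain ⟨k, N, hN, ⟨e⟩⟩ := h
  refine M2.isFinLocFree_of_iso e.symm (KFlat.Sch.isFinLocFree_biproduct N fun j => ?_)
  obtain ⟨i, n, -, ⟨e'⟩⟩ := hN j
  exact M2.isFinLocFree_of_isInvertible (M2.isInvertible_of_tensor_iso_unit _ _ e')

theorem inAddL_of_iso {A B : X.Modules} (e : A ≅ B) (h : KSix.InAddL L A) : KSix.InAddL L B := by
  obtain ⟨k, N, hN, ⟨e'⟩⟩ := h
  exact ⟨k, N, hN, ⟨e.symm ≪≫ e'⟩⟩

theorem inAddL_zero {A : X.Modules} (h : IsZero A) : KSix.InAddL L A :=
  ⟨0, Fin.elim0, fun j => j.elim0, ⟨h.iso ((IsZero.iff_id_eq_zero _).2 (biproduct.hom_ext _ _ fun j => j.elim0))⟩⟩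

/-- A biproduct over `Fin (k + l)` splits. -/
noncomputable def sumIso {k l : ℕ} (S : Fin (k + l) → X.Modules) :
    (⨁ fun j : Fin k => S (Fin.castAdd l j)) ⊞ (⨁ fun j : Fin l => S (Fin.natAdd k j)) ≅ ⨁ S where
  hom := biprod.desc (biproduct.desc fun j => biproduct.ι S _) (biproduct.desc fun j => biproduct.ι S _)
  inv := biprod.lift (biproduct.lift fun j => biproduct.π S _) (biproduct.lift fun j => biproduct.π S _)
  hom_inv_id := by
    refine biprod.hom_ext' _ _ (biproduct.hom_ext' _ _ fun a => ?_) (biproduct.hom_ext' _ _ fun a => ?_) <;>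
      refine biprod.hom_ext _ _ (biproduct.hom_ext _ _ fun b => ?_) (biproduct.hom_ext _ _ fun b => ?_) <;>
      simp [biproduct.ι_π, Fin.ext_iff]
    all_goals intros
    all_goals omega
  inv_hom_id := by
    rw [biprod.lift_desc, biproduct.lift_desc, biproduct.lift_desc]
    refine Eq.trans ?_ (biproduct.total (f := S))
    exact (Fin.sum_univ_add (f := fun j => biproduct.π S j ≫ biproduct.ι S j)).symm

theorem inAddL_biprod {A B : X.Modules} (hA : KSix.InAddL L A) (hB : KSix.InAddL L B) : KSix.InAddL L (A ⊞ B) := by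
  obtain ⟨k, N, hN, ⟨eA⟩⟩ := hA
  obtain ⟨l, M, hM, ⟨eB⟩⟩ := hB
  let S : Fin (k + l) → X.Modules := fun j => Sum.elim N M (finSumFinEquiv.symm j)
  have hl : ∀ j, S (Fin.castAdd l j) = N j := fun j => by simp [S]
  have hr : ∀ j, S (Fin.natAdd k j) = M j := fun j => by simp [S]
  refine ⟨k + l, S, fun j => ?_, ⟨biprod.mapIso eA eB ≪≫ ?_⟩⟩
  · obtain ⟨s, rfl⟩ := finSumFinEquiv.surjective j
    cases s with
    | inl j => rw [finSumFinEquiv_apply_left, hl]; exact hN j
    | inr j => rw [finSumFinEquiv_apply_right, hr]; exact hM j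
  · exact (biprod.mapIso
        (biproduct.mapIso fun j => eqToIso (hl j).symm)
        (biproduct.mapIso fun j => eqToIso (hr j).symm)) ≪≫
      sumIso S

open QCD in
/-- The negative powers inside quasi-coherent modules. -/
def PP : ObjectProperty (QCD.QC X) := fun M => KSix.InAddL L M.obj

instance : (PP (X := X) L).IsClosedUnderIsomorphisms where
  of_iso e h := inAddL_of_iso L ((QCD.qP X).ι.mapIso e) h

theorem pp_of_isZero {M : QCD.QC X} (h : IsZero M) : PP L M :=
  inAddL_zero L ((QCD.qP X).ι.map_isZero h)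

instance : (PP (X := X) L).ContainsZero where
  exists_zero := ⟨_, isZero_zero _, pp_of_isZero L (isZero_zero _)⟩

theorem pp_prod (A B : QCD.QC X) (hA : PP L A) (hB : PP L B) : PP L (A ⨯ B) :=
  haveI := preservesBinaryBiproducts_of_preservesBiproducts (QCD.qP X).ι
  haveI : PreservesBinaryBiproduct A B (QCD.qP X).ι := inferInstance
  inAddL_of_iso L (((QCD.qP X).ι.mapBiprod A B).symm ≪≫ (QCD.qP X).ι.mapIso (biprod.isoProd A B))
    (inAddL_biprod L hA hB)

variable (hL : KSix.IsAmpleFamily L)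

include hL

theorem hasResolutionProperty : PerfAux.HasResolutionProperty X := fun F hF hFT => by
  obtain ⟨M, π, -, hM, hπ⟩ := Exact8.AmpleFam.exists_epi L hL F hF hFT
  exact ⟨M, π, hM, hπ⟩

theorem pp_isQuasiLiftable : _root_.PCoh.IsQuasiLiftable (PP (X := X) L) := fun E F u hu hF => by
  haveI := hL.1
  haveI := hL.2.1
  have hflf := isFinLocFree_of_inAddL L hL.2.2.1 hF
  have hft : CohB1.IsFT F.obj := M1.isFP_isFT (M1.isFP_of_isFinLocFree hflf)
  haveI : Epi u.hom := inferInstanceAs (Epi ((QCD.qP X).ι.map u))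
  obtain ⟨P₀, g, hP₀, hg⟩ := exists_flf_epi (hasResolutionProperty L hL) E.2 F.2 hft u.hom
  obtain ⟨M, π, hM, hM', hπ⟩ := Exact8.AmpleFam.exists_epi L hL P₀ (M2.isQCoh_of_isFinLocFree hP₀)
    (M1.isFP_isFT (M1.isFP_of_isFinLocFree hP₀))
  refine ⟨⟨M, M2.isQCoh_of_isFinLocFree hM'⟩, ObjectProperty.homMk (π ≫ g), hM, ?_⟩
  refine (QCD.qP X).ι.epi_of_epi_map ?_
  show Epi ((π ≫ g) ≫ u.hom)
  rw [Category.assoc]
  exact epi_comp _ _

/-- A resolution of a pseudo-coherent object. -/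
theorem exists_resolution (K : DCoh.D X) (hK : ∀ k : ℤ, DCoh.IsPseudoCoherentD k K) (b : ℤ)
    (hb : ∀ i, b < i → IsZero (DCoh.HD K i)) :
    ∃ F : CochainComplex X.Modules ℤ, (∀ i, b < i → IsZero (F.X i)) ∧ (∀ i, KSix.InAddL L (F.X i)) ∧
      Nonempty (DCoh.toD X F ≅ K) := by
  haveI := hL.1
  haveI := hL.2.1
  have hres := hasResolutionProperty L hL
  have hq : DCoh.IsQCohD K := fun i => DPerf.isQCoh_HD (hK (i - 1)) (by omega)
  obtain ⟨N, ⟨eN⟩⟩ := QCD.exists_Φ_iso_of_affine_diagonal (fun U V => affine_inter hres) hq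
  let G := DerivedCategory.Q.objPreimage N
  let ιc := (QCD.qP X).ι.mapHomologicalComplex (ComplexShape.up ℤ)
  let eG : DCoh.toD X (ιc.obj G) ≅ K :=
    ((QCD.qP X).ι.mapDerivedCategoryFactors.app G).symm ≪≫
      (QCD.Φ X).mapIso (DerivedCategory.Q.objObjPreimageIso N) ≪≫ eN
  have hG : ∀ i, b + 1 ≤ i → G.ExactAt i := fun i hi => by
    rw [HomologicalComplex.exactAt_iff_isZero_homology]
    have h1 : IsZero ((ιc.obj G).homology i) :=
      (HomologicalComplex.exactAt_iff_isZero_homology _ _).1 ((KFlat.Sch.isZero_HD_toD_iff _ i).1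
        ((KFlat.Sch.isZero_HD_iff_of_iso eG i).2 (hb i (by omega))))
    exact IsZero.of_full_of_faithful_of_isZero (QCD.qP X).ι _
      (h1.of_iso ((G.sc i).mapHomologyIso (QCD.qP X).ι).symm)
  obtain ⟨E, u, hE, hz, hu⟩ := Groth.Agent.PCoh.exists_strictAll_quasiIso_of_cone (P := PP L)
    (pp_prod L) (pp_isQuasiLiftable L hL) (b + 1) hG fun k E w hE hw => by
    let C' := CochainComplex.mappingCone (ιc.map w)
    let eC : ιc.obj (CochainComplex.mappingCone w) ≅ C' :=
      CochainComplex.mappingCone.mapHomologicalComplexIso w (QCD.qP X).ι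
    have hflf : ∀ i, FlatMod.IsFinLocFree ((ιc.obj E).X i) := fun i =>
      isFinLocFree_of_inAddL L hL.2.2.1 (hE.1 i)
    have hSP : DCoh.IsStrictlyPerfect (ιc.obj E) :=
      ⟨⟨k + 1, b + 1, fun i hi => (QCD.qP X).ι.map_isZero (hE.2 i (by omega))⟩, hflf⟩
    have hC : DCoh.IsPseudoCoherentD k (DCoh.toD X C') :=
      DPerf.isPseudoCoherentD_of_approx (DPerf.approx_Ici₃ k _
        (DerivedCategory.mappingCone_triangle_distinguished (ιc.map w))
        (DPerf.approx_of_isPseudoCoherentD (isPseudoCoherentD_of_isPerfect (ResP.isPerfect_toD hSP) _))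
        (DPerf.approx_of_isPseudoCoherentD (isPseudoCoherentD_of_isoD eG.symm (hK k))))
    have hex : ∀ i, k < i → IsZero (DCoh.HD (DCoh.toD X C') i) := fun i hi => by
      refine (KFlat.Sch.isZero_HD_toD_iff C' i).2 ?_
      rw [HomologicalComplex.exactAt_iff_isZero_homology]
      exact (((QCD.qP X).ι.map_isZero ((HomologicalComplex.exactAt_iff_isZero_homology _ _).1 (hw i (by omega)))).of_iso
        (((CochainComplex.mappingCone w).sc i).mapHomologyIso (QCD.qP X).ι)).of_iso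
          ((HomologicalComplex.homologyFunctor _ _ i).mapIso eC.symm)
    let H := (CochainComplex.mappingCone w).homology k
    let eH : DCoh.HD (DCoh.toD X C') k ≅ H.obj :=
      (DerivedCategory.homologyFunctorFactors _ k).app C' ≪≫
        (HomologicalComplex.homologyFunctor _ _ k).mapIso eC.symm ≪≫
          ((CochainComplex.mappingCone w).sc k).mapHomologyIso (QCD.qP X).ι
    obtain ⟨M, π, hM, hM', hπ⟩ := Exact8.AmpleFam.exists_epi L hL H.obj H.2
      (M1.isFT_of_isIso eH (DPerf.finiteType_top hC hex))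
    exact ⟨⟨M, M2.isQCoh_of_isFinLocFree hM'⟩, ObjectProperty.homMk π, hM,
      (QCD.qP X).ι.epi_of_epi_map hπ⟩
  haveI : IsIso (DerivedCategory.Q.map u) := (DerivedCategory.isIso_Q_map_iff_quasiIso _ u).2 hu
  exact ⟨ιc.obj E, fun i hi => (QCD.qP X).ι.map_isZero (hz i (by omega)), hE,
    ⟨((QCD.qP X).ι.mapDerivedCategoryFactors.app E).symm ≪≫ (QCD.Φ X).mapIso (asIso (DerivedCategory.Q.map u)) ≪≫
      (QCD.qP X).ι.mapDerivedCategoryFactors.app G ≪≫ eG⟩⟩

/-- The amplitude version. -/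
theorem exists_resolution_amplitude (K : DCoh.D X) (m n : ℤ) (h : KSix.HasPerfectAmplitudeIn m n K) :
    ∃ F : CochainComplex X.Modules ℤ, DCoh.VanishesOutside F m n ∧ (∀ i, m < i → KSix.InAddL L (F.X i)) ∧
      FlatMod.IsFinLocFree (F.X m) ∧ Nonempty (DCoh.toD X F ≅ K) := by
  obtain ⟨hP, hA⟩ := RelPCS8.PerfAmp.of_perfectAmplitude h
  have hHD : ∀ i, (i < m ∨ n < i) → IsZero (DCoh.HD K i) := fun i hi => DPerf.isZero_HD_of_flatAmplitude hA hi
  obtain ⟨F₀, hz, hP₀, ⟨e₀⟩⟩ := exists_resolution L hL K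
    (fun k => DPerf.isPseudoCoherentD_of_approx (hP.mono_set (Set.subset_univ _))) n (fun i hi => hHD i (Or.inr hi))
  haveI : F₀.IsStrictlyLE n := (CochainComplex.isStrictlyLE_iff _ _).2 hz
  have hflf : ∀ i, FlatMod.IsFinLocFree (F₀.X i) := fun i => isFinLocFree_of_inAddL L hL.2.2.1 (hP₀ i)
  obtain ⟨A, h1, h2, ⟨eA⟩⟩ := hA
  have hflat : FlatMod.IsFlat (cokernel (F₀.d (m - 1) m)) :=
    DPerf.isFlat_cokernel_of_amplitude F₀ n (fun i => KFlat.Sch.isFlat_of_isFinLocFree (hflf i)) le_rfl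
      ⟨A, h1, h2, ⟨eA ≪≫ e₀.symm⟩⟩
  have hFP : CohB1.IsFP (cokernel (F₀.d (m - 1) m)) :=
    DPerf.isFP_cokernel (M1.isFP_isQCoh (M1.isFP_of_isFinLocFree (hflf (m - 1))))
      (M1.isFP_isFT (M1.isFP_of_isFinLocFree (hflf (m - 1)))) (M1.isFP_of_isFinLocFree (hflf m)) _
  have hcok : FlatMod.IsFinLocFree (cokernel (F₀.d (m - 1) m)) :=
    (M1.isFinLocFree_iff _).2 ⟨hFP, fun x => M1.free_stalk_of_flat hFP x (hflat x)⟩
  haveI : F₀.IsGE m := (CochainComplex.isGE_iff F₀ m).2 fun i hi =>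
    (KFlat.Sch.isZero_HD_toD_iff F₀ i).1 ((KFlat.Sch.isZero_HD_iff_of_iso e₀ i).2 (hHD i (Or.inl hi)))
  let F := F₀.truncGE m
  have em : F.X m ≅ cokernel (F₀.d (m - 1) m) := CochainComplex.truncGEXIsoOpcycles F₀ m ≪≫
    (F₀.opcyclesIsCokernel (m - 1) m (by simp)).coconePointUniqueUpToIso (colimit.isColimit _)
  refine ⟨F, fun i hi => ?_, fun i hi => inAddL_of_iso L (CochainComplex.truncGEXIso F₀ m i hi).symm (hP₀ i),
    M2.isFinLocFree_of_iso em.symm hcok, ⟨(asIso (DerivedCategory.Q.map (F₀.πTruncGE m))).symm ≪≫ e₀⟩⟩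
  rcases lt_trichotomy i m with hi' | hi' | hi'
  · exact F.isZero_of_isStrictlyGE m i hi'
  · subst hi'
    have hn : n < i := hi.resolve_left (lt_irrefl i)
    refine IsZero.of_iso ?_ em
    exact IsZero.of_epi (cokernel.π (F₀.d (i - 1) i)) (hz i hn)
  · exact (hz i (hi.resolve_left (by omega))).of_iso (CochainComplex.truncGEXIso F₀ m i hi')

end Groth.Agent.AmpleRes8
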