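import Groth.Agent.Lib.RHom.Compact
import Groth.Agent.Lib.DMon9.ProjQC
import Groth.Agent.Lib.DGen9.Gen

/-!
Detection of isomorphisms in `D_QCoh` by perfect complexes.
-/

set_option autoImplicit false
set_option linter.unusedSectionVars false
set_option linter.style.haveILetI false
set_option backward.isDefEq.respectTransparency false
set_option backward.isDefEq.respectTransparency.types false
set_option maxHeartbeats 800000

universe u

open CategoryTheory CategoryTheory.Limits AlgebraicGeometry Pretriangulated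

attribute [local instance] HasDerivedCategory.standard

namespace Groth.Agent.PerfTest8

open RHom KFlat KFlat.Sch

variable {X S : Scheme.{u}} (f : X ⟶ S)

/-- Derived pullback of the structure sheaf. -/
noncomputable def qOPull : (DMon9.lP f).obj (qO S) ≅ qO X :=
  haveI := DMon9.isIso_lPα f (sg 0 (Coh.structureModule S)) (isKFlat_sgOne 0)
  asIso ((DMon9.lPα f).app (sg 0 (Coh.structureModule S))) ≪≫ DerivedCategory.Q.mapIso (DMon9.epsCx f).symm

theorem bijective_comp [DCoh.HasRpush f] {F G : DCoh.D X} (φ : F ⟶ G)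
    (h : ∀ (E : CochainComplex X.Modules ℤ) [DCoh.HasLTensorCx E] [DCoh.HasRSheafHom E], DCoh.IsPerfect (DCoh.toD X E) →
      IsIso ((DCoh.Rpush f).map ((DCoh.RSheafHom E).map φ))) {K : DCoh.D X} (hK : DCoh.IsPerfect K) :
    Function.Bijective fun x : K ⟶ F => x ≫ φ := by
  let E := DerivedCategory.Q.objPreimage K
  let eK : DerivedCategory.Q.obj E ≅ K := DerivedCategory.Q.objObjPreimageIso K
  haveI := KFlat.Sch.hasLTensorCx E
  haveI := RHom.hasRSheafHom E
  haveI := h E (DGen9.isPerfect_of_iso eK.symm hK)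
  let R := DCoh.RSheafHom E
  let A := DCoh.RSheafHomAdj E
  let B := DMon9.adjLP f
  haveI : IsIso ((ltCounit E).app (sg 0 (Coh.structureModule X))) := isIso_counit_kflat E _ (isKFlat_sgOne 0)
  let u : (DCoh.LTensorCx E).obj ((DMon9.lP f).obj (qO S)) ≅ K :=
    (DCoh.LTensorCx E).mapIso (qOPull f) ≪≫
      asIso ((ltCounit E).app (sg 0 (Coh.structureModule X))) ≪≫ DerivedCategory.Q.mapIso (lunit.app E) ≪≫ eK
  let Φ : ∀ T : DCoh.D X, (K ⟶ T) ≃ (qO S ⟶ (DCoh.Rpush f).obj (R.obj T)) := fun T =>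
    (u.symm.homCongr (Iso.refl T)).trans ((A.homEquiv _ _).trans (B.homEquiv _ _))
  have nat : ∀ x : K ⟶ F, Φ G (x ≫ φ) = Φ F x ≫ (DCoh.Rpush f).map (R.map φ) := fun x => by
    simp only [Φ, Equiv.trans_apply, Iso.homCongr_apply, Iso.refl_hom, Category.comp_id]
    rw [← Category.assoc, A.homEquiv_naturality_right, B.homEquiv_naturality_right]
  have hb : Function.Bijective fun y : qO S ⟶ (DCoh.Rpush f).obj (R.obj F) => y ≫ (DCoh.Rpush f).map (R.map φ) :=
    (asIso ((DCoh.Rpush f).map (R.map φ))).homToEquiv.bijective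
  have : (fun x : K ⟶ F => x ≫ φ) = (Φ G).symm ∘ (fun y => y ≫ (DCoh.Rpush f).map (R.map φ)) ∘ Φ F :=
    funext fun x => ((Φ G).eq_symm_apply).2 (nat x)
  rw [this]
  exact (Φ G).symm.bijective.comp (hb.comp (Φ F).bijective)

theorem isIso_of_bijective [CompactSpace X] [QuasiSeparatedSpace X] {F G : DCoh.D X} (hF : DCoh.IsQCohD F)
    (hG : DCoh.IsQCohD G) (φ : F ⟶ G)
    (hb : ∀ K : DCoh.D X, DCoh.IsPerfect K → Function.Bijective fun x : K ⟶ F => x ≫ φ) : IsIso φ := by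
  obtain ⟨C, v, w, hT⟩ := distinguished_cocone_triangle φ
  refine (Triangle.isZero₃_iff_isIso₁ _ hT).1 ?_
  obtain ⟨P, hP, -, -, hgen⟩ := DGen9.exists_generator_qcqs X Set.univ isClosed_univ (by simp)
  have hC : DCoh.IsQCohD C := DPush.isQCohD_obj₃ _ hT hF hG
  refine (hgen C hC (DGen9.suppOn_univ C)).2 fun n ψ => ?_
  have hK : DCoh.IsPerfect (P⟦n⟧) := DGen9.isPerfect_shiftD hP n
  let σ := shiftFunctor (DCoh.D X) (1 : ℤ)
  let i : (P⟦n⟧)⟦(-1 : ℤ)⟧⟦(1 : ℤ)⟧ ≅ P⟦n⟧ := shiftNegShift (P⟦n⟧) (1 : ℤ)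
  have h1 : ψ ≫ w = 0 := by
    obtain ⟨g, hg⟩ := σ.map_surjective (i.hom ≫ ψ ≫ w)
    have hg0 : g ≫ φ = 0 := σ.map_injective (by
      rw [σ.map_comp, hg, σ.map_zero, Category.assoc, Category.assoc]
      erw [comp_distTriang_mor_zero₃₁ _ hT]
      rw [comp_zero, comp_zero])
    have hg' : g = 0 := (hb _ (DGen9.isPerfect_shiftD hK _)).1 (show g ≫ φ = 0 ≫ φ by rw [hg0, zero_comp])
    rw [hg', σ.map_zero] at hg
    exact (cancel_epi i.hom).1 (hg.symm.trans comp_zero.symm)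
  obtain ⟨g, hg⟩ := Triangle.coyoneda_exact₃ _ hT ψ h1
  obtain ⟨g', hg'⟩ := (hb _ hK).2 g
  rw [hg, ← show g' ≫ φ = g from hg']
  erw [Category.assoc, comp_distTriang_mor_zero₁₂ _ hT]
  exact comp_zero

end Groth.Agent.PerfTest8
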